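import Groth.Agent.Lib.Pinch4.EtaleDescend
import Groth.Agent.Lib.AlgSpDecent.MonoPoint

/-!
# Etale morphisms of pinchings
-/

universe u

set_option backward.isDefEq.respectTransparency.types false

open CategoryTheory CategoryTheory.Limits AlgebraicGeometry TensorProduct
open Groth.Agent.Pinch4 Groth.Agent.FerrandPush

namespace Groth.Agent.ClosedPush25

variable {A B C D A' B' C' D' : CommRingCat.{u}} {p : A ⟶ C} {q : D ⟶ C} {i : B ⟶ D} {j : B ⟶ A}
  {p' : A' ⟶ C'} {q' : D' ⟶ C'} {i' : B' ⟶ D'} {j' : B' ⟶ A'} {φA : A ⟶ A'} {φB : B ⟶ B'} {φC : C ⟶ C'} {φD : D ⟶ D'}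

/-- The corner of a cube with etale faces is etale. -/
theorem etale_cube (H : IsFerrand p.hom q.hom i.hom j.hom) (H' : IsFerrand p'.hom q'.hom i'.hom j'.hom)
    (hA : IsPushout p φA φC p') (hD : IsPushout q φD φC q') (hAB : j ≫ φA = φB ≫ j') (hBD : φB ≫ i' = i ≫ φD)
    (heA : φA.hom.Etale) (heD : φD.hom.Etale) : φB.hom.Etale := by
  have pA := isPushout_A H H' hA hD hAB hBD
  have pD := isPushout_D H H' hA hD hAB hBD
  letI := i.hom.toAlgebra
  letI := j.hom.toAlgebra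
  letI := q.hom.toAlgebra
  letI := p.hom.toAlgebra
  letI : Algebra B C := (q.hom.comp i.hom).toAlgebra
  letI := φB.hom.toAlgebra
  haveI : IsScalarTower B D C := IsScalarTower.of_algebraMap_eq fun _ => rfl
  haveI : IsScalarTower B A C := IsScalarTower.of_algebraMap_eq fun x => H.comm x
  have hsq : EtMil.IsFibreSquare B D A C := ⟨H.surj, fun d a hda => by
    obtain ⟨x, hx1, hx2⟩ := H.exist d a hda
    exact ⟨x, ⟨hx1, hx2⟩, fun y hy => H.ext y x (hy.1.trans hx1.symm) (hy.2.trans hx2.symm)⟩⟩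
  haveI := etale_tensor_of_isPushout pA heA
  haveI := etale_tensor_of_isPushout pD heD
  exact MilnorH7.etale_of_pair (D := B') hsq

variable {X Y Z X' Y' Z' W W' : Scheme.{u}} {i : Z ⟶ X} {j : Z ⟶ Y} {b : X ⟶ W} {a : Y ⟶ W}
  {i' : Z' ⟶ X'} {j' : Z' ⟶ Y'} {b' : X' ⟶ W'} {a' : Y' ⟶ W'} {f : X' ⟶ X} {g : Y' ⟶ Y} {h : Z' ⟶ Z} {k : W' ⟶ W}

/-- A morphism of pinchings with cartesian etale faces is etale. -/
theorem cube_etale (H : IsPinch i j b a) (H' : IsPinch i' j' b' a') (hX : IsPullback h i' i f) (hY : IsPullback h j' j g)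
    (kb : b' ≫ k = f ≫ b) (ka : a' ≫ k = g ≫ a) [Etale f] [Etale g] : Etale k := by
  refine (HasRingHomProperty.iff_exists_appLE (P := @Etale)
    (RingHom.Etale.stableUnderComposition.stableUnderCompositionWithLocalizationAway
      (fun R S _ _ _ r _ => RingHom.etale_algebraMap.2 (Algebra.Etale.of_isLocalizationAway r))).1).2 fun x => ?_
  obtain ⟨O, O', c, c', e, eX, eY, eZ, hx, pX, pY, hb, ha⟩ := exists_cube H H' hX hY kb ka x
  exact ⟨⟨O, c.affO⟩, ⟨O', c'.affO⟩, hx, e, etale_cube c.ferrand c'.ferrand pX pY hb ha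
    (HasRingHomProperty.appLE @Etale f inferInstance ⟨_, c.affX⟩ ⟨_, c'.affX⟩ eX)
    (HasRingHomProperty.appLE @Etale g inferInstance ⟨_, c.affY⟩ ⟨_, c'.affY⟩ eY)⟩

end Groth.Agent.ClosedPush25
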